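import Mathlib
import Groth.Agent.Lib.Lead.QC.BlowUpMul
import Groth.Agent.Lib.Helper2.IdealComap

/-!
# Contracting correspondences: the fixed locus near an invariant closed subscheme (S19878)
-/

set_option autoImplicit false
universe u
open CategoryTheory CategoryTheory.Limits AlgebraicGeometry TopologicalSpace

namespace Groth.Agent.H5.LVC

/-- if `J^k ≤ J^(k+1)` and `J` is finitely generated on the affine open `U`, then the support of
`J` is open in `U`. -/
theorem isOpen_support_inter {Y : Scheme.{u}} (J : Y.IdealSheafData) (k : ℕ)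
    (hJ : J ^ k ≤ J ^ (k + 1)) (U : Y.affineOpens) (hfg : (J.ideal U).FG) :
    IsOpen ((J.support : Set Y) ∩ U) := by
  have h1 : J.ideal U ^ k ≤ J.ideal U ^ (k + 1) := by
    have := (Scheme.IdealSheafData.le_def.mp hJ) U
    rwa [Scheme.IdealSheafData.ideal_pow, Scheme.IdealSheafData.ideal_pow, Pi.pow_apply,
      Pi.pow_apply] at this
  have h2 : J.ideal U ^ k ≤ J.ideal U • (J.ideal U ^ k) := by
    rw [smul_eq_mul, ← pow_succ']
    exact h1
  obtain ⟨r, hr1, hr2⟩ := Submodule.exists_sub_one_mem_and_smul_eq_zero_of_fg_of_le_smul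
    (J.ideal U) (J.ideal U ^ k) (hfg.pow) h2
  rw [Scheme.IdealSheafData.coe_support_inter]
  have key : Y.zeroLocus (U := U.1) (J.ideal U : Set Γ(Y, U.1)) ∩ U = Y.basicOpen r := by
    ext x
    constructor
    · rintro ⟨hx, hxU⟩
      rw [Scheme.mem_zeroLocus_iff] at hx
      have h3 : (1 - r) ∈ J.ideal U := by
        have := (J.ideal U).neg_mem hr1
        simpa using this
      have h4 := hx (1 - r) h3
      have h5 : x ∈ Y.basicOpen (r + (1 - r)) := by
        rw [add_sub_cancel, Scheme.basicOpen_one]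
        exact hxU
      rcases Y.basicOpen_add_le r (1 - r) h5 with h | h
      · exact h
      · exact absurd h h4
    · intro hx
      refine ⟨?_, Y.basicOpen_le r hx⟩
      rw [Scheme.mem_zeroLocus_iff]
      intro f hf hxf
      have h6 : f ^ k ∈ J.ideal U ^ k := Ideal.pow_mem_pow hf k
      have h7 : r * f ^ k = 0 := hr2 _ h6
      have h8 : x ∈ Y.basicOpen (f ^ k) := by
        rcases Nat.eq_zero_or_pos k with rfl | hk
        · rw [pow_zero, Scheme.basicOpen_one]
          exact Y.basicOpen_le f hxf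
        · rw [Scheme.basicOpen_pow (X := Y) f hk]
          exact hxf
      have h9 : x ∈ Y.basicOpen (r * f ^ k) := by
        rw [Scheme.basicOpen_mul]
        exact ⟨hx, h8⟩
      rw [h7, Scheme.basicOpen_zero] at h9
      exact h9
  rw [key]
  exact (Y.basicOpen r).isOpen

/-- ... hence the support is open if `J` is locally finitely generated around its support. -/
theorem isOpen_support {Y : Scheme.{u}} (J : Y.IdealSheafData) (k : ℕ)
    (hJ : J ^ k ≤ J ^ (k + 1))
    (hfg : ∀ y : Y, ∃ U : Y.affineOpens, y ∈ U.1 ∧ (J.ideal U).FG) :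
    IsOpen (J.support : Set Y) := by
  rw [isOpen_iff_forall_mem_open]
  intro y hy
  obtain ⟨U, hyU, hU⟩ := hfg y
  exact ⟨(J.support : Set Y) ∩ U, Set.inter_subset_left, isOpen_support_inter J k hJ U hU,
    ⟨hy, hyU⟩⟩


open Groth.Agent.LD.QC Groth.Agent.H2.FSchAff in
/-- **S19878.** -/
theorem subset_preimage_support {C X Fx : Scheme.{u}} (k : Type u) [Field k]
    (pC : C ⟶ Spec (CommRingCat.of k)) [LocallyOfFiniteType pC]
    (pX : X ⟶ Spec (CommRingCat.of k)) (c₁ c₂ : C ⟶ X) (hc : c₁ ≫ pX = c₂ ≫ pX)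
    (i : Fx ⟶ C) (δ : Fx ⟶ X)
    (hF : IsPullback i δ (pullback.lift c₁ c₂ hc) (pullback.diagonal pX))
    (I : X.IdealSheafData) (W : C.Opens) (hW : Set.range i.base ⊆ (W : Set C))
    (k₀ : ℕ) (hpow : I.comap (W.ι ≫ c₁) ^ k₀ ≤ I.comap (W.ι ≫ c₂) ^ (k₀ + 1))
    (β : Fx.Opens) (hβ : _root_.IsConnected (β : Set Fx))
    (hβZ : (δ.base '' (β : Set Fx) ∩ (I.support : Set X)).Nonempty) :
    (β : Set Fx) ⊆ δ.base ⁻¹' (I.support : Set X) := by
  haveI : IsLocallyNoetherian C := LocallyOfFiniteType.isLocallyNoetherian pC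
  have h1 : i ≫ c₁ = δ := by
    have := congrArg (· ≫ pullback.fst pX pX) hF.w
    simp only [Category.assoc, pullback.diagonal_fst, Category.comp_id] at this
    rw [pullback.lift_fst] at this
    exact this
  have h2 : i ≫ c₂ = δ := by
    have := congrArg (· ≫ pullback.snd pX pX) hF.w
    simp only [Category.assoc, pullback.diagonal_snd, Category.comp_id] at this
    rw [pullback.lift_snd] at this
    exact this
  have hWr : Set.range i.base ⊆ Set.range W.ι.base := by
    rw [Scheme.Opens.range_ι]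
    exact hW
  have hi' : IsOpenImmersion.lift W.ι i hWr ≫ W.ι = i := IsOpenImmersion.lift_fac _ _ _
  have hJ1 : I.comap δ = (I.comap (W.ι ≫ c₁)).comap (IsOpenImmersion.lift W.ι i hWr) := by
    rw [← Scheme.IdealSheafData.comap_comp, ← Category.assoc, hi', h1]
  have hJ2 : I.comap δ = (I.comap (W.ι ≫ c₂)).comap (IsOpenImmersion.lift W.ι i hWr) := by
    rw [← Scheme.IdealSheafData.comap_comp, ← Category.assoc, hi', h2]
  have hJpow : (I.comap δ) ^ k₀ ≤ (I.comap δ) ^ (k₀ + 1) := by
    calc (I.comap δ) ^ k₀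
        = ((I.comap (W.ι ≫ c₁)) ^ k₀).comap (IsOpenImmersion.lift W.ι i hWr) := by
          rw [Groth.Agent.H2.FSchAff.comap_pow, ← hJ1]
      _ ≤ ((I.comap (W.ι ≫ c₂)) ^ (k₀ + 1)).comap (IsOpenImmersion.lift W.ι i hWr) :=
          Scheme.IdealSheafData.comap_mono _ hpow
      _ = (I.comap δ) ^ (k₀ + 1) := by
          rw [Groth.Agent.H2.FSchAff.comap_pow, ← hJ2]
  have hfg : ∀ y : Fx, ∃ U : Fx.affineOpens, y ∈ U.1 ∧ ((I.comap δ).ideal U).FG := by
    intro y
    obtain ⟨V, U, hyU, e⟩ := exists_affine_chart (IsOpenImmersion.lift W.ι i hWr) y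
    refine ⟨U, hyU, ?_⟩
    rw [hJ1, ideal_comap_of_le (I.comap (W.ι ≫ c₁)) (IsOpenImmersion.lift W.ι i hWr) V U e]
    haveI : IsNoetherianRing Γ(W, V.1) := IsLocallyNoetherian.component_noetherian V
    exact ((isNoetherianRing_iff_ideal_fg _).mp inferInstance
      ((I.comap (W.ι ≫ c₁)).ideal V)).map _
  have hopen := isOpen_support (I.comap δ) k₀ hJpow hfg
  have hclopen : IsClopen ((I.comap δ).support : Set Fx) :=
    ⟨(I.comap δ).support.isClosed, hopen⟩
  have hsupp : ((I.comap δ).support : Set Fx) = δ.base ⁻¹' (I.support : Set X) := by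
    rw [Scheme.IdealSheafData.support_comap]
    rfl
  rw [← hsupp]
  apply hβ.isPreconnected.subset_isClopen hclopen
  obtain ⟨x, ⟨b, hb, rfl⟩, hx⟩ := hβZ
  refine ⟨b, hb, ?_⟩
  rw [hsupp]
  exact hx

end Groth.Agent.H5.LVC
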