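import Mathlib

/-!
# Ring-level lemmas for the geometric Frobenius of `C₀ ×_{k₀} K`
-/

set_option autoImplicit false
universe u
open CategoryTheory CategoryTheory.Limits

namespace Groth.Agent.H5.LVC

/-- a pushout of commutative rings is generated by the images of the two factors. -/
theorem closure_eq_top_of_isPushout {R₀ A₀ K A : CommRingCat.{u}} {f : R₀ ⟶ A₀} {g : R₀ ⟶ K}
    {α : A₀ ⟶ A} {κ : K ⟶ A} (h : IsPushout f g α κ) :
    Subring.closure (Set.range α.hom ∪ Set.range κ.hom) = ⊤ := by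
  set T := Subring.closure (Set.range α.hom ∪ Set.range κ.hom) with hT
  let α' : A₀ ⟶ CommRingCat.of T := CommRingCat.ofHom
    (α.hom.codRestrict T (fun a => Subring.subset_closure (Or.inl ⟨a, rfl⟩)))
  let κ' : K ⟶ CommRingCat.of T := CommRingCat.ofHom
    (κ.hom.codRestrict T (fun a => Subring.subset_closure (Or.inr ⟨a, rfl⟩)))
  let ι : CommRingCat.of T ⟶ A := CommRingCat.ofHom T.subtype
  have w : f ≫ α' = g ≫ κ' := by
    ext r
    have := congrArg (fun φ => φ.hom r) h.w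
    exact this
  have h1 : α ≫ (h.desc α' κ' w ≫ ι) = α ≫ 𝟙 A := by
    rw [← Category.assoc, h.inl_desc, Category.comp_id]
    rfl
  have h2 : κ ≫ (h.desc α' κ' w ≫ ι) = κ ≫ 𝟙 A := by
    rw [← Category.assoc, h.inr_desc, Category.comp_id]
    rfl
  have h3 : h.desc α' κ' w ≫ ι = 𝟙 A := h.hom_ext h1 h2
  rw [eq_top_iff]
  intro m _
  have h4 : ι.hom ((h.desc α' κ' w).hom m) = m := by
    have := congrArg (fun φ => φ.hom m) h3
    exact this
  rw [← h4]
  exact ((h.desc α' κ' w).hom m).2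

/-- if `φ` raises the generators coming from `A₀` to the `q`-th power and fixes those from a
perfect field `K`, then every value of `φ` is a `q`-th power (`q = p^N`, characteristic `p`). -/
theorem exists_pow_eq_of_closure {A A₀ K : Type*} [CommRing A] [CommRing A₀] [CommRing K]
    (p N : ℕ) [Fact p.Prime] (hp : (p : A) = 0) (φ : A →+* A) (α : A₀ →+* A) (κ : K →+* A)
    (hα : ∀ a, φ (α a) = α a ^ (p ^ N)) (hκ : ∀ c, φ (κ c) = κ c)
    (hK : ∀ c : K, ∃ μ : K, μ ^ (p ^ N) = c)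
    (hcl : Subring.closure (Set.range α ∪ Set.range κ) = ⊤) (m : A) :
    ∃ g : A, φ m = g ^ (p ^ N) := by
  have hadd : ∀ x y : A, (x + y) ^ (p ^ N) = x ^ (p ^ N) + y ^ (p ^ N) := by
    intro x y
    rcases subsingleton_or_nontrivial A with hA | hA
    · exact Subsingleton.elim _ _
    · haveI : CharP A p := (CharP.charP_iff_prime_eq_zero Fact.out).2 hp
      exact add_pow_char_pow x y p N
  have hmem : m ∈ Subring.closure (Set.range α ∪ Set.range κ) := by
    rw [hcl]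
    trivial
  have hneg1 : ∃ g : A, φ (-1) = g ^ (p ^ N) := by
    obtain ⟨μ, hμ⟩ := hK (-1)
    refine ⟨κ μ, ?_⟩
    have : (-1 : A) = κ (-1) := by rw [map_neg, map_one]
    rw [this, hκ, ← hμ, map_pow]
  induction hmem using Subring.closure_induction with
  | mem x hx =>
    rcases hx with ⟨a, rfl⟩ | ⟨c, rfl⟩
    · exact ⟨α a, hα a⟩
    · obtain ⟨μ, hμ⟩ := hK c
      exact ⟨κ μ, by rw [hκ, ← hμ, map_pow]⟩
  | zero => exact ⟨0, by rw [map_zero, zero_pow (pow_ne_zero _ (Fact.out : p.Prime).ne_zero)]⟩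
  | one => exact ⟨1, by rw [map_one, one_pow]⟩
  | add x y _ _ hx hy =>
    obtain ⟨g₁, h₁⟩ := hx
    obtain ⟨g₂, h₂⟩ := hy
    exact ⟨g₁ + g₂, by rw [map_add, h₁, h₂, hadd]⟩
  | neg x _ hx =>
    obtain ⟨g₁, h₁⟩ := hx
    obtain ⟨g₂, h₂⟩ := hneg1
    refine ⟨g₂ * g₁, ?_⟩
    have : -x = (-1) * x := by ring
    rw [this, map_mul, h₁, h₂, mul_pow]
  | mul x y _ _ hx hy =>
    obtain ⟨g₁, h₁⟩ := hx
    obtain ⟨g₂, h₂⟩ := hy
    exact ⟨g₁ * g₂, by rw [map_mul, h₁, h₂, mul_pow]⟩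

end Groth.Agent.H5.LVC
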