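import Mathlib
import Groth.Prelude.Def_Frob
import Groth.Agent.Lib.Helper5.LVC.FrobQ

set_option autoImplicit false
universe u
open CategoryTheory CategoryTheory.Limits AlgebraicGeometry

namespace Groth.Agent.H5.LVC

section FrobPow
variable (X : Scheme.{u}) (p : ℕ) [Fact p.Prime] [FrobSch.IsCharP X p]

theorem frobPow_succ (N : ℕ) :
    End.asHom (End.of (FrobSch.frob X p) ^ (N + 1)) =
      FrobSch.frob X p ≫ End.asHom (End.of (FrobSch.frob X p) ^ N) := by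
  rw [pow_succ, End.mul_def]

theorem frobPow_zero : End.asHom (End.of (FrobSch.frob X p) ^ 0) = 𝟙 X := by
  rw [pow_zero]
  rfl

theorem frobPow_appTop (N : ℕ) (a : Γ(X, ⊤)) :
    (End.asHom (End.of (FrobSch.frob X p) ^ N)).appTop a = a ^ (p ^ N) := by
  induction N generalizing a with
  | zero =>
    rw [frobPow_zero, pow_zero, pow_one]
    simp
  | succ N ih =>
    rw [frobPow_succ, Scheme.Hom.comp_appTop, CommRingCat.comp_apply, ih,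
      map_pow, FrobSch.frob_appTop, ← pow_mul, pow_succ, mul_comm]

theorem frobPow_apply (N : ℕ) (x : X) :
    (End.asHom (End.of (FrobSch.frob X p) ^ N)) x = x := by
  induction N with
  | zero => rw [frobPow_zero]; rfl
  | succ N ih =>
    rw [frobPow_succ, Scheme.Hom.comp_apply, FrobSch.frob_apply, ih]

variable {X} in
theorem frobPow_comp {Y : Scheme.{u}} [FrobSch.IsCharP Y p] (f : X ⟶ Y) (N : ℕ) :
    End.asHom (End.of (FrobSch.frob X p) ^ N) ≫ f =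
      f ≫ End.asHom (End.of (FrobSch.frob Y p) ^ N) := by
  induction N with
  | zero => rw [frobPow_zero, frobPow_zero, Category.id_comp, Category.comp_id]
  | succ N ih =>
    rw [frobPow_succ, frobPow_succ, Category.assoc, ih, ← Category.assoc, FrobSch.frob_comp,
      Category.assoc]

end FrobPow


section Geom

variable {C C₀ : Scheme.{u}} (p : ℕ) [Fact p.Prime]
  (k₀ : Type u) [Field k₀] (K : Type u) [Field K] [Algebra k₀ K] [IsAlgClosure k₀ K]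
  (f₀ : C₀ ⟶ Spec (CommRingCat.of k₀)) [FrobSch.IsCharP C₀ p]
  (πC₀ : C ⟶ C₀) (πK : C ⟶ Spec (CommRingCat.of K))
  (hC : IsPullback πC₀ πK f₀ (Spec.map (CommRingCat.ofHom (algebraMap k₀ K))))
  (N : ℕ) (Fr : C ⟶ C)
  (hFr₀ : Fr ≫ πC₀ = πC₀ ≫ End.asHom (End.of (FrobSch.frob C₀ p) ^ N))
  (hFrK : Fr ≫ πK = πK)

include hFr₀ in
/-- the geometric Frobenius preserves the preimage of every open of `C₀`. -/
theorem preimage_le_preimage_Fr (U₀ : C₀.Opens) : πC₀ ⁻¹ᵁ U₀ ≤ Fr ⁻¹ᵁ (πC₀ ⁻¹ᵁ U₀) := by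
  intro x hx
  change πC₀ (Fr x) ∈ U₀
  have h1 : πC₀ (Fr x) = (Fr ≫ πC₀) x := (Scheme.Hom.comp_apply Fr πC₀ x).symm
  rw [h1, hFr₀, Scheme.Hom.comp_apply, frobPow_apply]
  exact hx

include hC hFr₀ hFrK in
/-- on `πC₀⁻¹ U₀` (`U₀` affine) every value of the geometric Frobenius is a `p^N`-th power
(affine scheme version). -/
theorem exists_pow_eq_resLE (U₀ : C₀.Opens) (hU₀ : IsAffineOpen U₀)
    (m : Γ((πC₀ ⁻¹ᵁ U₀ : C.Opens), ⊤)) :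
    ∃ g : Γ((πC₀ ⁻¹ᵁ U₀ : C.Opens), ⊤),
      (Fr.resLE (πC₀ ⁻¹ᵁ U₀) (πC₀ ⁻¹ᵁ U₀) (preimage_le_preimage_Fr p πC₀ N Fr hFr₀ U₀)).appTop m =
        g ^ (p ^ N) := by
  haveI : IsAffine (U₀ : Scheme.{u}) := hU₀
  haveI : FrobSch.IsCharP (U₀ : Scheme.{u}) p := FrobSch.IsCharP.of_hom U₀.ι p
  haveI : FrobSch.IsCharP ((πC₀ ⁻¹ᵁ U₀ : C.Opens) : Scheme.{u}) p :=
    FrobSch.IsCharP.of_hom ((πC₀ ⁻¹ᵁ U₀).ι ≫ πC₀) p
  have hpb : IsPullback (πC₀ ∣_ U₀) ((πC₀ ⁻¹ᵁ U₀).ι ≫ πK) (U₀.ι ≫ f₀)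
      (Spec.map (CommRingCat.ofHom (algebraMap k₀ K))) :=
    (isPullback_morphismRestrict πC₀ U₀).paste_vert hC
  have hpo := isPushout_appTop_of_isPullback hpb
  have hcl := closure_eq_top_of_isPushout hpo
  -- the two compatibilities
  have e1 : Fr.resLE (πC₀ ⁻¹ᵁ U₀) (πC₀ ⁻¹ᵁ U₀) (preimage_le_preimage_Fr p πC₀ N Fr hFr₀ U₀) ≫
      (πC₀ ∣_ U₀) = (πC₀ ∣_ U₀) ≫ End.asHom (End.of (FrobSch.frob (U₀ : Scheme.{u}) p) ^ N) := by
    rw [← cancel_mono U₀.ι]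
    have hL : (Fr.resLE (πC₀ ⁻¹ᵁ U₀) (πC₀ ⁻¹ᵁ U₀)
        (preimage_le_preimage_Fr p πC₀ N Fr hFr₀ U₀) ≫ (πC₀ ∣_ U₀)) ≫ U₀.ι =
        (πC₀ ⁻¹ᵁ U₀).ι ≫ πC₀ ≫ End.asHom (End.of (FrobSch.frob C₀ p) ^ N) := by
      rw [Category.assoc, morphismRestrict_ι, ← Category.assoc, Scheme.Hom.resLE_comp_ι,
        Category.assoc, hFr₀]
    have hR : ((πC₀ ∣_ U₀) ≫ End.asHom (End.of (FrobSch.frob (U₀ : Scheme.{u}) p) ^ N)) ≫ U₀.ι =
        (πC₀ ⁻¹ᵁ U₀).ι ≫ πC₀ ≫ End.asHom (End.of (FrobSch.frob C₀ p) ^ N) := by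
      rw [Category.assoc, frobPow_comp p U₀.ι N, ← Category.assoc, morphismRestrict_ι,
        Category.assoc]
    rw [hL, hR]
  have e2 : Fr.resLE (πC₀ ⁻¹ᵁ U₀) (πC₀ ⁻¹ᵁ U₀) (preimage_le_preimage_Fr p πC₀ N Fr hFr₀ U₀) ≫
      ((πC₀ ⁻¹ᵁ U₀).ι ≫ πK) = (πC₀ ⁻¹ᵁ U₀).ι ≫ πK := by
    rw [← Category.assoc, Scheme.Hom.resLE_comp_ι, Category.assoc, hFrK]
  refine exists_pow_eq_of_closure p N
    (FrobSch.IsCharP.natCast_eq_zero (X := ((πC₀ ⁻¹ᵁ U₀ : C.Opens) : Scheme.{u})) (p := p))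
    (Fr.resLE (πC₀ ⁻¹ᵁ U₀) (πC₀ ⁻¹ᵁ U₀) (preimage_le_preimage_Fr p πC₀ N Fr hFr₀ U₀)).appTop.hom
    (πC₀ ∣_ U₀).appTop.hom ((πC₀ ⁻¹ᵁ U₀).ι ≫ πK).appTop.hom ?_ ?_ ?_ hcl m
  · intro a
    have h1 := congrArg (fun φ => φ.appTop.hom a) e1
    simp only [Scheme.Hom.comp_appTop, CommRingCat.hom_comp, RingHom.comp_apply] at h1
    rw [h1]
    have h2 := frobPow_appTop (U₀ : Scheme.{u}) p N a
    have h3 : (End.asHom (End.of (FrobSch.frob (U₀ : Scheme.{u}) p) ^ N)).appTop.hom a =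
        a ^ (p ^ N) := h2
    rw [h3, map_pow]
  · intro c
    have h1 := congrArg (fun φ => φ.appTop.hom c) e2
    simp only [Scheme.Hom.comp_appTop, CommRingCat.hom_comp, RingHom.comp_apply] at h1
    exact h1
  · intro c
    haveI : IsAlgClosed K := IsAlgClosure.isAlgClosed k₀
    obtain ⟨μ, hμ⟩ := IsAlgClosed.exists_pow_nat_eq
      ((Scheme.ΓSpecIso (CommRingCat.of K)).hom.hom c)
      (pow_pos (Fact.out : p.Prime).pos N)
    refine ⟨(Scheme.ΓSpecIso (CommRingCat.of K)).inv.hom μ, ?_⟩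
    rw [← map_pow, hμ]
    have := congrArg (fun φ => φ.hom c) (Scheme.ΓSpecIso (CommRingCat.of K)).hom_inv_id
    exact this

end Geom

end Groth.Agent.H5.LVC
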