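import Mathlib
import Groth.Prelude.Def_Frob
import Groth.Agent.Lib.Helper5.LVC.FrobS
import Groth.Agent.Lib.Lead.QC.BlowUpMul
import Groth.Agent.Lib.Helper2.IdealComap

set_option autoImplicit false
universe u
open CategoryTheory CategoryTheory.Limits AlgebraicGeometry

namespace Groth.Agent.H5.LVC

open Groth.Agent.LD.QC Groth.Agent.H2.FSchAff

section Geom

variable {C C₀ : Scheme.{u}} (p : ℕ) [Fact p.Prime]
  (k₀ : Type u) [Field k₀] (K : Type u) [Field K] [Algebra k₀ K] [IsAlgClosure k₀ K]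
  (f₀ : C₀ ⟶ Spec (CommRingCat.of k₀)) [FrobSch.IsCharP C₀ p]
  (πC₀ : C ⟶ C₀) (πK : C ⟶ Spec (CommRingCat.of K))
  (hC : IsPullback πC₀ πK f₀ (Spec.map (CommRingCat.ofHom (algebraMap k₀ K))))
  (N : ℕ) (Fr : C ⟶ C)
  (hFr₀ : Fr ≫ πC₀ = πC₀ ≫ End.asHom (End.of (FrobSch.frob C₀ p) ^ N))
  (hFrK : Fr ≫ πK = πK)

include hC hFr₀ hFrK in
/-- on `πC₀⁻¹ U₀` (`U₀` affine) every value of the geometric Frobenius is a `p^N`-th power. -/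
theorem exists_pow_eq_appLE (U₀ : C₀.Opens) (hU₀ : IsAffineOpen U₀) (m : Γ(C, πC₀ ⁻¹ᵁ U₀)) :
    ∃ g : Γ(C, πC₀ ⁻¹ᵁ U₀),
      (Fr.appLE (πC₀ ⁻¹ᵁ U₀) (πC₀ ⁻¹ᵁ U₀) (preimage_le_preimage_Fr p πC₀ N Fr hFr₀ U₀)) m =
        g ^ (p ^ N) := by
  obtain ⟨g', hg'⟩ := exists_pow_eq_resLE p k₀ K f₀ πC₀ πK hC N Fr hFr₀ hFrK U₀ hU₀
    ((πC₀ ⁻¹ᵁ U₀).topIso.inv.hom m)
  refine ⟨(πC₀ ⁻¹ᵁ U₀).topIso.hom.hom g', ?_⟩
  have h1 := Scheme.Hom.resLE_app_top Fr (U := πC₀ ⁻¹ᵁ U₀) (V := πC₀ ⁻¹ᵁ U₀)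
    (preimage_le_preimage_Fr p πC₀ N Fr hFr₀ U₀)
  have h2 : (Fr.resLE (πC₀ ⁻¹ᵁ U₀) (πC₀ ⁻¹ᵁ U₀)
      (preimage_le_preimage_Fr p πC₀ N Fr hFr₀ U₀)).appTop.hom
      ((πC₀ ⁻¹ᵁ U₀).topIso.inv.hom m) =
      (πC₀ ⁻¹ᵁ U₀).topIso.inv.hom ((Fr.appLE (πC₀ ⁻¹ᵁ U₀) (πC₀ ⁻¹ᵁ U₀)
        (preimage_le_preimage_Fr p πC₀ N Fr hFr₀ U₀)).hom
          ((πC₀ ⁻¹ᵁ U₀).topIso.hom.hom ((πC₀ ⁻¹ᵁ U₀).topIso.inv.hom m))) := by
    have := congrArg (fun φ => φ.hom ((πC₀ ⁻¹ᵁ U₀).topIso.inv.hom m)) h1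
    exact this
  have h3 : (πC₀ ⁻¹ᵁ U₀).topIso.hom.hom ((πC₀ ⁻¹ᵁ U₀).topIso.inv.hom m) = m := by
    have := congrArg (fun φ => φ.hom m) (πC₀ ⁻¹ᵁ U₀).topIso.inv_hom_id
    exact this
  rw [h3] at h2
  have h4 : (Fr.resLE (πC₀ ⁻¹ᵁ U₀) (πC₀ ⁻¹ᵁ U₀)
      (preimage_le_preimage_Fr p πC₀ N Fr hFr₀ U₀)).appTop.hom
      ((πC₀ ⁻¹ᵁ U₀).topIso.inv.hom m) = g' ^ (p ^ N) := hg'
  rw [← map_pow, ← h4, h2]
  have h5 := congrArg (fun φ => φ.hom ((Fr.appLE (πC₀ ⁻¹ᵁ U₀) (πC₀ ⁻¹ᵁ U₀)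
      (preimage_le_preimage_Fr p πC₀ N Fr hFr₀ U₀)).hom m)) (πC₀ ⁻¹ᵁ U₀).topIso.inv_hom_id
  exact h5.symm


include hC hFr₀ hFrK in
/-- key local estimate: on small affine opens of `W`, the ideal of `I` pulled back by `Fr ≫ c₁`
lies in the `p^N`-th power of any radical ideal containing it. -/
theorem ideal_le_radical_pow {X : Scheme.{u}} (c₁ : C ⟶ X) (I : X.IdealSheafData) {W' : Scheme.{u}} (j : W' ⟶ C)
    (Jw : W'.IdealSheafData)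
    (hrad : (I.comap (Fr ≫ c₁)).comap j ≤ Jw.radical)
    (V : W'.affineOpens) (U₀ : C₀.affineOpens)
    (hle : V.1 ≤ (j ≫ πC₀) ⁻¹ᵁ U₀.1) :
    ((I.comap (Fr ≫ c₁)).comap j).ideal V ≤ (Jw.ideal V).radical ^ (p ^ N) := by
  haveI : IsAffineHom πC₀ :=
    MorphismProperty.of_isPullback (P := @IsAffineHom) hC.flip inferInstance
  have e' : V.1 ≤ j ⁻¹ᵁ (πC₀ ⁻¹ᵁ U₀.1) := hle
  have e := preimage_le_preimage_Fr p πC₀ N Fr hFr₀ U₀.1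
  have hform : ((I.comap (Fr ≫ c₁)).comap j).ideal V =
      ((I.comap c₁).ideal ⟨πC₀ ⁻¹ᵁ U₀.1, U₀.2.preimage πC₀⟩).map
        ((j.appLE (πC₀ ⁻¹ᵁ U₀.1) V.1 e').hom.comp
          (Fr.appLE (πC₀ ⁻¹ᵁ U₀.1) (πC₀ ⁻¹ᵁ U₀.1) e).hom) := by
    rw [Scheme.IdealSheafData.comap_comp I Fr c₁,
      ideal_comap_of_le ((I.comap c₁).comap Fr) j ⟨πC₀ ⁻¹ᵁ U₀.1, U₀.2.preimage πC₀⟩ V e',
      ideal_comap_of_le (I.comap c₁) Fr ⟨πC₀ ⁻¹ᵁ U₀.1, U₀.2.preimage πC₀⟩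
        ⟨πC₀ ⁻¹ᵁ U₀.1, U₀.2.preimage πC₀⟩ e, Ideal.map_map]
  have hmain : ∀ m ∈ (I.comap c₁).ideal ⟨πC₀ ⁻¹ᵁ U₀.1, U₀.2.preimage πC₀⟩,
      ((j.appLE (πC₀ ⁻¹ᵁ U₀.1) V.1 e').hom.comp
          (Fr.appLE (πC₀ ⁻¹ᵁ U₀.1) (πC₀ ⁻¹ᵁ U₀.1) e).hom) m ∈
        (Jw.ideal V).radical ^ (p ^ N) := by
    intro m hm
    obtain ⟨g, hg⟩ := exists_pow_eq_appLE p k₀ K f₀ πC₀ πK hC N Fr hFr₀ hFrK U₀.1 U₀.2 m
    have h1 : ((j.appLE (πC₀ ⁻¹ᵁ U₀.1) V.1 e').hom.comp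
          (Fr.appLE (πC₀ ⁻¹ᵁ U₀.1) (πC₀ ⁻¹ᵁ U₀.1) e).hom) m ∈
        ((I.comap (Fr ≫ c₁)).comap j).ideal V := by
      rw [hform]
      exact Ideal.mem_map_of_mem _ hm
    have h2 : ((j.appLE (πC₀ ⁻¹ᵁ U₀.1) V.1 e').hom.comp
          (Fr.appLE (πC₀ ⁻¹ᵁ U₀.1) (πC₀ ⁻¹ᵁ U₀.1) e).hom) m ∈ (Jw.ideal V).radical := by
      have := hrad V h1
      rwa [Scheme.IdealSheafData.radical_ideal] at this
    have h3 : ((j.appLE (πC₀ ⁻¹ᵁ U₀.1) V.1 e').hom.comp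
          (Fr.appLE (πC₀ ⁻¹ᵁ U₀.1) (πC₀ ⁻¹ᵁ U₀.1) e).hom) m =
        ((j.appLE (πC₀ ⁻¹ᵁ U₀.1) V.1 e').hom g) ^ (p ^ N) := by
      rw [RingHom.comp_apply, ← map_pow]
      exact congrArg _ hg
    rw [h3] at h2 ⊢
    exact Ideal.pow_mem_pow (Ideal.mem_radical_of_pow_mem h2) _
  rw [hform, Ideal.map_le_iff_le_comap]
  intro m hm
  exact hmain m hm

include hC hFr₀ hFrK in
/-- **contraction criterion** (after any base change `j : W' ⟶ C`, e.g. an open of `C`): if `Z` is set-theoretically invariant on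
`W` and `(√J)^d ⊆ J` with `d < p^N`, the Frobenius-twisted correspondence is contracting. -/
theorem contracting_on_open {X : Scheme.{u}} (c₁ c₂ : C ⟶ X) (I : X.IdealSheafData)
    {W' : Scheme.{u}} (j : W' ⟶ C) (d : ℕ) (hn : d < p ^ N)
    (hrad : (I.comap (Fr ≫ c₁)).comap j ≤ ((I.comap c₂).comap j).radical)
    (hd : ((I.comap c₂).comap j).radical ^ d ≤ (I.comap c₂).comap j) :
    (I.comap (Fr ≫ c₁)).comap j ≤ (I.comap c₂).comap j ∧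
      ((I.comap (Fr ≫ c₁)).comap j) ^ d ≤ ((I.comap c₂).comap j) ^ (d + 1) := by
  have hdV : ∀ V : W'.affineOpens,
      (((I.comap c₂).comap j).ideal V).radical ^ d ≤ ((I.comap c₂).comap j).ideal V := by
    intro V
    have := hd V
    rwa [Scheme.IdealSheafData.ideal_pow, Pi.pow_apply, Scheme.IdealSheafData.radical_ideal]
      at this
  constructor
  · apply le_of_affPair (j ≫ πC₀)
    intro V U₀ hle
    refine (ideal_le_radical_pow p k₀ K f₀ πC₀ πK hC N Fr hFr₀ hFrK c₁ I j _ hrad V U₀ hle).trans ?_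
    exact (Ideal.pow_le_pow_right hn.le).trans (hdV V)
  · apply le_of_affPair (j ≫ πC₀)
    intro V U₀ hle
    rw [Scheme.IdealSheafData.ideal_pow, Pi.pow_apply, Scheme.IdealSheafData.ideal_pow,
      Pi.pow_apply]
    have h1 := ideal_le_radical_pow p k₀ K f₀ πC₀ πK hC N Fr hFr₀ hFrK c₁ I j _ hrad V U₀ hle
    calc (((I.comap (Fr ≫ c₁)).comap j).ideal V) ^ d
        ≤ ((((I.comap c₂).comap j).ideal V).radical ^ (p ^ N)) ^ d := Ideal.pow_right_mono h1 d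
      _ = (((I.comap c₂).comap j).ideal V).radical ^ (p ^ N * d) := (pow_mul _ _ _).symm
      _ ≤ (((I.comap c₂).comap j).ideal V).radical ^ (d * (d + 1)) := by
          apply Ideal.pow_le_pow_right
          have : d + 1 ≤ p ^ N := hn
          calc d * (d + 1) ≤ d * p ^ N := Nat.mul_le_mul_left d this
            _ = p ^ N * d := Nat.mul_comm _ _
      _ = ((((I.comap c₂).comap j).ideal V).radical ^ d) ^ (d + 1) := pow_mul _ _ _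
      _ ≤ (((I.comap c₂).comap j).ideal V) ^ (d + 1) := Ideal.pow_right_mono (hdV V) _

end Geom

end Groth.Agent.H5.LVC
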