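import Mathlib
import Groth.Prelude.Def_Frob
import Groth.Agent.Lib.Helper5.LVC.FrobC

set_option autoImplicit false
universe u
open CategoryTheory CategoryTheory.Limits AlgebraicGeometry

namespace Groth.Agent.H5.LVC

open Groth.Agent.LD.QC Groth.Agent.H2.FSchAff

/-- an ideal sheaf lies in the radical of any ideal sheaf with smaller support. -/
theorem le_radical_of_support_le {X : Scheme.{u}} {L J : X.IdealSheafData}
    (h : J.support ≤ L.support) : L ≤ J.radical := by
  calc L ≤ L.radical := Scheme.IdealSheafData.le_radical L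
    _ = Scheme.IdealSheafData.vanishingIdeal L.support :=
        Scheme.IdealSheafData.vanishingIdeal_support.symm
    _ ≤ Scheme.IdealSheafData.vanishingIdeal J.support :=
        Scheme.IdealSheafData.vanishingIdeal_antimono h
    _ = J.radical := Scheme.IdealSheafData.vanishingIdeal_support

/-- the radical commutes with restriction along an open immersion. -/
theorem radical_comap_of_isOpenImmersion {X Y : Scheme.{u}} (j : Y ⟶ X) [IsOpenImmersion j]
    (J : X.IdealSheafData) : (J.comap j).radical = J.radical.comap j := by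
  apply Scheme.IdealSheafData.ext
  funext U
  rw [Scheme.IdealSheafData.radical_ideal,
    Scheme.IdealSheafData.ideal_comap_of_isOpenImmersion,
    Scheme.IdealSheafData.ideal_comap_of_isOpenImmersion,
    Scheme.IdealSheafData.radical_ideal, Ideal.comap_radical]

section Geom

variable {C C₀ : Scheme.{u}} (p : ℕ) [Fact p.Prime]
  (k₀ : Type u) [Field k₀] (K : Type u) [Field K] [Algebra k₀ K] [IsAlgClosure k₀ K]
  (f₀ : C₀ ⟶ Spec (CommRingCat.of k₀)) [FrobSch.IsCharP C₀ p]
  (πC₀ : C ⟶ C₀) (πK : C ⟶ Spec (CommRingCat.of K))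
  (hC : IsPullback πC₀ πK f₀ (Spec.map (CommRingCat.ofHom (algebraMap k₀ K))))
  (N : ℕ) (Fr : C ⟶ C)
  (hFr₀ : Fr ≫ πC₀ = πC₀ ≫ End.asHom (End.of (FrobSch.frob C₀ p) ^ N))
  (hFrK : Fr ≫ πK = πK)

include hC hFr₀ hFrK in
/-- **S18396.** -/
theorem contracting_of_invariant {X : Scheme.{u}} (c₁ c₂ : C ⟶ X) (I : X.IdealSheafData) (d : ℕ)
    (hd : (I.comap c₂).radical ^ d ≤ I.comap c₂) (hn : d < p ^ N)
    (hinv : (Fr ≫ c₁).base '' (c₂.base ⁻¹' (I.support : Set X)) ⊆ (I.support : Set X)) :
    I.comap (Fr ≫ c₁) ≤ I.comap c₂ ∧ I.comap (Fr ≫ c₁) ^ d ≤ I.comap c₂ ^ (d + 1) := by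
  have hsupp : (I.comap c₂).support ≤ (I.comap (Fr ≫ c₁)).support := by
    rw [Scheme.IdealSheafData.support_comap, Scheme.IdealSheafData.support_comap]
    intro y hy
    exact hinv ⟨y, hy, rfl⟩
  have hrad := le_radical_of_support_le hsupp
  have := contracting_on_open p k₀ K f₀ πC₀ πK hC N Fr hFr₀ hFrK c₁ c₂ I (𝟙 C) d hn
    (by rw [Scheme.IdealSheafData.comap_id, Scheme.IdealSheafData.comap_id]; exact hrad)
    (by rw [Scheme.IdealSheafData.comap_id]; exact hd)
  rw [Scheme.IdealSheafData.comap_id, Scheme.IdealSheafData.comap_id] at this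
  exact this

end Geom

end Groth.Agent.H5.LVC
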