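import Mathlib
import Groth.Prelude.Def_Frob
import Groth.Agent.Lib.Helper5.LVC.FrobT

set_option autoImplicit false
universe u
open CategoryTheory CategoryTheory.Limits AlgebraicGeometry

namespace Groth.Agent.H5.LVC

open Groth.Agent.LD.QC Groth.Agent.H2.FSchAff

section Geom

variable {C C₀ : Scheme.{u}} (p : ℕ) [Fact p.Prime]
  (k₀ : Type u) [Field k₀] (K : Type u) [Field K] [Algebra k₀ K] [IsAlgClosure k₀ K]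
  (f₀ : C₀ ⟶ Spec (CommRingCat.of k₀)) [FrobSch.IsCharP C₀ p]
  (πC₀ : C ⟶ C₀) (πK : C ⟶ Spec (CommRingCat.of K))
  (hC : IsPullback πC₀ πK f₀ (Spec.map (CommRingCat.ofHom (algebraMap k₀ K))))
  (N : ℕ) (Fr : C ⟶ C)
  (hFr₀ : Fr ≫ πC₀ = πC₀ ≫ End.asHom (End.of (FrobSch.frob C₀ p) ^ N))
  (hFrK : Fr ≫ πK = πK)

include hFr₀ in
/-- a morphism defined over `k₀` has the same image in `X₀` before and after the Frobenius twist. -/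
theorem apply_Fr_comp_eq {X X₀ : Scheme.{u}} (πX₀ : X ⟶ X₀) (c₁ : C ⟶ X) (c₁₀ : C₀ ⟶ X₀)
    (hc₁₀ : c₁ ≫ πX₀ = πC₀ ≫ c₁₀) (y : C) : πX₀ ((Fr ≫ c₁) y) = πX₀ (c₁ y) := by
  have h1 : πX₀ ((Fr ≫ c₁) y) = ((Fr ≫ c₁) ≫ πX₀) y := (Scheme.Hom.comp_apply _ _ _).symm
  have h2 : (Fr ≫ c₁) ≫ πX₀ = πC₀ ≫ End.asHom (End.of (FrobSch.frob C₀ p) ^ N) ≫ c₁₀ := by
    rw [Category.assoc, hc₁₀, ← Category.assoc, hFr₀, Category.assoc]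
  have h3 : πX₀ (c₁ y) = (c₁ ≫ πX₀) y := (Scheme.Hom.comp_apply _ _ _).symm
  rw [h1, h2, h3, hc₁₀, Scheme.Hom.comp_apply, Scheme.Hom.comp_apply, frobPow_apply,
    Scheme.Hom.comp_apply]

include hC hFr₀ hFrK in
/-- **S18398.** -/
theorem contracting_of_invariant_definedOver {X X₀ : Scheme.{u}} (πX₀ : X ⟶ X₀) (c₁ c₂ : C ⟶ X)
    (c₁₀ : C₀ ⟶ X₀) (hc₁₀ : c₁ ≫ πX₀ = πC₀ ≫ c₁₀) (I₀ : X₀.IdealSheafData) (d : ℕ)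
    (hd : ((I₀.comap πX₀).comap c₂).radical ^ d ≤ (I₀.comap πX₀).comap c₂) (hn : d < p ^ N)
    (hinv : c₁.base '' (c₂.base ⁻¹' ((I₀.comap πX₀).support : Set X)) ⊆
      ((I₀.comap πX₀).support : Set X)) :
    (I₀.comap πX₀).comap (Fr ≫ c₁) ≤ (I₀.comap πX₀).comap c₂ ∧
      (I₀.comap πX₀).comap (Fr ≫ c₁) ^ d ≤ (I₀.comap πX₀).comap c₂ ^ (d + 1) := by
  apply contracting_of_invariant p k₀ K f₀ πC₀ πK hC N Fr hFr₀ hFrK c₁ c₂ (I₀.comap πX₀) d hd hn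
  rintro _ ⟨y, hy, rfl⟩
  have h1 : c₁ y ∈ ((I₀.comap πX₀).support : Set X) := hinv ⟨y, hy, rfl⟩
  rw [Scheme.IdealSheafData.support_comap] at h1 ⊢
  change πX₀ ((Fr ≫ c₁) y) ∈ (I₀.support : Set X₀)
  rw [apply_Fr_comp_eq p πC₀ N Fr hFr₀ πX₀ c₁ c₁₀ hc₁₀ y]
  exact h1

end Geom

end Groth.Agent.H5.LVC
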