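import Mathlib
import Groth.Prelude.Def_Frob
import Groth.Agent.Lib.Helper5.LVC.FrobT

set_option autoImplicit false
universe u
open CategoryTheory CategoryTheory.Limits AlgebraicGeometry

namespace Groth.Agent.H5.LVC

open Groth.Agent.LD.QC Groth.Agent.H2.FSchAff

section Geom

variable {C C₀ : Scheme.{u}} (p : ℕ) [Fact p.Prime]
  (k₀ : Type u) [Field k₀] (K : Type u) [Field K] [Algebra k₀ K] [IsAlgClosure k₀ K]
  (f₀ : C₀ ⟶ Spec (CommRingCat.of k₀)) [FrobSch.IsCharP C₀ p]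
  (πC₀ : C ⟶ C₀) (πK : C ⟶ Spec (CommRingCat.of K))
  (hC : IsPullback πC₀ πK f₀ (Spec.map (CommRingCat.ofHom (algebraMap k₀ K))))
  (N : ℕ) (Fr : C ⟶ C)
  (hFr₀ : Fr ≫ πC₀ = πC₀ ≫ End.asHom (End.of (FrobSch.frob C₀ p) ^ N))
  (hFrK : Fr ≫ πK = πK)

/-- the bad locus over a closed point `x`: points of `c₂⁻¹(x)` not sent to `x` by `b`. -/
theorem isClosed_badLocus {X : Scheme.{u}} (b c₂ : C ⟶ X) [LocallyQuasiFinite c₂] (x : X)
    (hx : IsClosed ({x} : Set X)) : IsClosed {y : C | c₂ y = x ∧ b y ≠ x} := by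
  refine isClosed_of_subset_discrete_closed (t := c₂ ⁻¹' {x}) ?_
    (c₂.isDiscrete_preimage_singleton x) (hx.preimage c₂.continuous)
  intro y hy
  exact hy.1

/-- the fixed points of `(b, c₂)` avoid the bad locus. -/
theorem fix_subset_compl_badLocus {X S : Scheme.{u}} (pX : X ⟶ S) (b c₂ : C ⟶ X)
    (hcomm : b ≫ pX = c₂ ≫ pX) (x : X) :
    (pullback.lift b c₂ hcomm).base ⁻¹' Set.range (pullback.diagonal pX).base ⊆
      {y : C | c₂ y = x ∧ b y ≠ x}ᶜ := by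
  rintro y ⟨z, hz⟩ ⟨h1, h2⟩
  apply h2
  have hz' : (pullback.diagonal pX) z = (pullback.lift b c₂ hcomm) y := hz
  have e1 : b y = (pullback.fst pX pX) ((pullback.lift b c₂ hcomm) y) := by
    rw [← Scheme.Hom.comp_apply, pullback.lift_fst]
  have e2 : c₂ y = (pullback.snd pX pX) ((pullback.lift b c₂ hcomm) y) := by
    rw [← Scheme.Hom.comp_apply, pullback.lift_snd]
  have e3 : (pullback.fst pX pX) ((pullback.diagonal pX) z) = z := by
    rw [← Scheme.Hom.comp_apply, pullback.diagonal_fst]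
    rfl
  have e4 : (pullback.snd pX pX) ((pullback.diagonal pX) z) = z := by
    rw [← Scheme.Hom.comp_apply, pullback.diagonal_snd]
    rfl
  rw [e1, ← hz', e3, ← e4, hz', ← e2, h1]

include hC hFr₀ hFrK in
/-- **S18397.** -/
theorem exists_open_contracting_closedPoint {X : Scheme.{u}} (pX : X ⟶ Spec (CommRingCat.of K))
    (c₁ c₂ : C ⟶ X) [LocallyQuasiFinite c₂] (hcomm : (Fr ≫ c₁) ≫ pX = c₂ ≫ pX) (d : ℕ)
    (hn : d < p ^ N) (x : X) (hx : IsClosed ({x} : Set X))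
    (hd : ((Scheme.IdealSheafData.vanishingIdeal ⟨{x}, hx⟩).comap c₂).radical ^ d ≤
        (Scheme.IdealSheafData.vanishingIdeal ⟨{x}, hx⟩).comap c₂) :
    ∃ W : C.Opens,
      (pullback.lift (Fr ≫ c₁) c₂ hcomm).base ⁻¹' Set.range (pullback.diagonal pX).base ⊆
        (W : Set C) ∧
      (Scheme.IdealSheafData.vanishingIdeal ⟨{x}, hx⟩).comap (W.ι ≫ Fr ≫ c₁) ≤
        (Scheme.IdealSheafData.vanishingIdeal ⟨{x}, hx⟩).comap (W.ι ≫ c₂) ∧
      ∃ k : ℕ, (Scheme.IdealSheafData.vanishingIdeal ⟨{x}, hx⟩).comap (W.ι ≫ Fr ≫ c₁) ^ k ≤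
        (Scheme.IdealSheafData.vanishingIdeal ⟨{x}, hx⟩).comap (W.ι ≫ c₂) ^ (k + 1) := by
  have hS := isClosed_badLocus (Fr ≫ c₁) c₂ x hx
  refine ⟨⟨{y : C | c₂ y = x ∧ (Fr ≫ c₁) y ≠ x}ᶜ, hS.isOpen_compl⟩,
    fix_subset_compl_badLocus pX (Fr ≫ c₁) c₂ hcomm x, ?_⟩
  set W : C.Opens := ⟨{y : C | c₂ y = x ∧ (Fr ≫ c₁) y ≠ x}ᶜ, hS.isOpen_compl⟩ with hW
  set Vx := Scheme.IdealSheafData.vanishingIdeal ⟨{x}, hx⟩ with hVx
  have hsuppV : (Vx.support : Set X) = {x} := by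
    rw [hVx, Scheme.IdealSheafData.coe_support_vanishingIdeal]
    rfl
  have hsupp : ((Vx.comap c₂).comap W.ι).support ≤ ((Vx.comap (Fr ≫ c₁)).comap W.ι).support := by
    rw [Scheme.IdealSheafData.support_comap, Scheme.IdealSheafData.support_comap,
      Scheme.IdealSheafData.support_comap, Scheme.IdealSheafData.support_comap]
    intro w hw
    have hw1 : c₂ (W.ι w) ∈ (Vx.support : Set X) := hw
    rw [hsuppV] at hw1
    change (Fr ≫ c₁) (W.ι w) ∈ (Vx.support : Set X)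
    rw [hsuppV]
    have hwW : (W.ι w) ∈ {y : C | c₂ y = x ∧ (Fr ≫ c₁) y ≠ x}ᶜ := w.2
    by_contra hne
    exact hwW ⟨hw1, hne⟩
  have hrad := le_radical_of_support_le hsupp
  have hd' : ((Vx.comap c₂).comap W.ι).radical ^ d ≤ (Vx.comap c₂).comap W.ι := by
    rw [radical_comap_of_isOpenImmersion, ← Groth.Agent.H2.FSchAff.comap_pow]
    exact Scheme.IdealSheafData.comap_mono _ hd
  have key := contracting_on_open p k₀ K f₀ πC₀ πK hC N Fr hFr₀ hFrK c₁ c₂ Vx W.ι d hn hrad hd'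
  rw [Scheme.IdealSheafData.comap_comp Vx W.ι (Fr ≫ c₁),
    Scheme.IdealSheafData.comap_comp Vx W.ι c₂]
  exact ⟨key.1, d, key.2⟩

end Geom

end Groth.Agent.H5.LVC
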