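import Mathlib
import Groth.Prelude.Def_Frob
import Groth.Agent.Lib.Helper5.LVC.FrobV
import Groth.Agent.Lib.Helper5.LVC.Contr

set_option autoImplicit false
universe u
open CategoryTheory CategoryTheory.Limits AlgebraicGeometry

namespace Groth.Agent.H5.LVC

open Groth.Agent.LD.QC Groth.Agent.H2.FSchAff

/-- for a correspondence contracting near `Z` in a neighbourhood of fixed points, `δ⁻¹(Z)` is
open in the scheme of fixed points. -/
theorem isOpen_preimage_support {C X Fx : Scheme.{u}} [IsLocallyNoetherian C]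
    {S : Scheme.{u}} (pX : X ⟶ S) (c₁ c₂ : C ⟶ X) (hc : c₁ ≫ pX = c₂ ≫ pX)
    (i : Fx ⟶ C) (δ : Fx ⟶ X)
    (hF : IsPullback i δ (pullback.lift c₁ c₂ hc) (pullback.diagonal pX))
    (I : X.IdealSheafData) (W : C.Opens) (hW : Set.range i.base ⊆ (W : Set C))
    (k₀ : ℕ) (hpow : I.comap (W.ι ≫ c₁) ^ k₀ ≤ I.comap (W.ι ≫ c₂) ^ (k₀ + 1)) :
    IsOpen (δ.base ⁻¹' (I.support : Set X)) := by
  have h1 : i ≫ c₁ = δ := by
    have := congrArg (· ≫ pullback.fst pX pX) hF.w
    simp only [Category.assoc, pullback.diagonal_fst, Category.comp_id] at this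
    rw [pullback.lift_fst] at this
    exact this
  have h2 : i ≫ c₂ = δ := by
    have := congrArg (· ≫ pullback.snd pX pX) hF.w
    simp only [Category.assoc, pullback.diagonal_snd, Category.comp_id] at this
    rw [pullback.lift_snd] at this
    exact this
  have hWr : Set.range i.base ⊆ Set.range W.ι.base := by
    rw [Scheme.Opens.range_ι]
    exact hW
  have hi' : IsOpenImmersion.lift W.ι i hWr ≫ W.ι = i := IsOpenImmersion.lift_fac _ _ _
  have hJ1 : I.comap δ = (I.comap (W.ι ≫ c₁)).comap (IsOpenImmersion.lift W.ι i hWr) := by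
    rw [← Scheme.IdealSheafData.comap_comp, ← Category.assoc, hi', h1]
  have hJ2 : I.comap δ = (I.comap (W.ι ≫ c₂)).comap (IsOpenImmersion.lift W.ι i hWr) := by
    rw [← Scheme.IdealSheafData.comap_comp, ← Category.assoc, hi', h2]
  have hJpow : (I.comap δ) ^ k₀ ≤ (I.comap δ) ^ (k₀ + 1) := by
    calc (I.comap δ) ^ k₀
        = ((I.comap (W.ι ≫ c₁)) ^ k₀).comap (IsOpenImmersion.lift W.ι i hWr) := by
          rw [Groth.Agent.H2.FSchAff.comap_pow, ← hJ1]
      _ ≤ ((I.comap (W.ι ≫ c₂)) ^ (k₀ + 1)).comap (IsOpenImmersion.lift W.ι i hWr) :=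
          Scheme.IdealSheafData.comap_mono _ hpow
      _ = (I.comap δ) ^ (k₀ + 1) := by
          rw [Groth.Agent.H2.FSchAff.comap_pow, ← hJ2]
  have hfg : ∀ y : Fx, ∃ U : Fx.affineOpens, y ∈ U.1 ∧ ((I.comap δ).ideal U).FG := by
    intro y
    obtain ⟨V, U, hyU, e⟩ := exists_affine_chart (IsOpenImmersion.lift W.ι i hWr) y
    refine ⟨U, hyU, ?_⟩
    rw [hJ1, ideal_comap_of_le (I.comap (W.ι ≫ c₁)) (IsOpenImmersion.lift W.ι i hWr) V U e]
    haveI : IsNoetherianRing Γ(W, V.1) := IsLocallyNoetherian.component_noetherian V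
    exact ((isNoetherianRing_iff_ideal_fg _).mp inferInstance
      ((I.comap (W.ι ≫ c₁)).ideal V)).map _
  have hopen := isOpen_support (I.comap δ) k₀ hJpow hfg
  have hsupp : ((I.comap δ).support : Set Fx) = δ.base ⁻¹' (I.support : Set X) := by
    rw [Scheme.IdealSheafData.support_comap]
    rfl
  rw [← hsupp]
  exact hopen

/-- a locally Noetherian, Jacobson scheme in which the closed points are isolated and every
closed point has an open neighbourhood... : abstract topological step.  If every point whose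
image under `δ` is closed is isolated and the fibres of `δ` over closed points are open, then the
space is discrete. -/
theorem discreteTopology_of_open_discrete_fibres {Fx X : Scheme.{u}} (δ : Fx ⟶ X)
    [JacobsonSpace Fx] [JacobsonSpace X] [LocallyOfFiniteType δ]
    (hopen : ∀ x : X, IsClosed ({x} : Set X) → IsOpen (δ ⁻¹' {x}))
    (hdisc : ∀ x : X, _root_.IsDiscrete (δ ⁻¹' {x})) : DiscreteTopology Fx := by
  rw [discreteTopology_iff_isOpen_singleton]
  intro f
  -- a closed point in the closure of `f`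
  have hne : (closure ({f} : Set Fx)).Nonempty := ⟨f, subset_closure rfl⟩
  obtain ⟨y, hyf, hycl⟩ := nonempty_inter_closedPoints hne isClosed_closure.isLocallyClosed
  have hy : IsClosed ({y} : Set Fx) := hycl
  have hδy : IsClosed ({δ y} : Set X) := δ.closePoints_subset_preimage_closedPoints hycl
  have hfy : f ⤳ y := specializes_iff_mem_closure.2 hyf
  have hfmem : f ∈ δ ⁻¹' {δ y} := hfy.mem_open (hopen _ hδy) rfl
  obtain ⟨u, hu, hueq⟩ := isDiscrete_iff_forall_mem_exists_isOpen.mp (hdisc (δ y)) f hfmem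
  have : ({f} : Set Fx) = u ∩ δ ⁻¹' {δ y} := hueq.symm
  rw [this]
  exact hu.inter (hopen _ hδy)

end Groth.Agent.H5.LVC
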