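import Mathlib
import Groth.Prelude.Def_Frob
import Groth.Agent.Lib.Helper5.LVC.FrobW

set_option autoImplicit false
universe u
open CategoryTheory CategoryTheory.Limits AlgebraicGeometry

namespace Groth.Agent.H5.LVC

open Groth.Agent.LD.QC Groth.Agent.H2.FSchAff

section Geom

variable {C C₀ : Scheme.{u}} (p : ℕ) [Fact p.Prime]
  (k₀ : Type u) [Field k₀] (K : Type u) [Field K] [Algebra k₀ K] [IsAlgClosure k₀ K]
  (f₀ : C₀ ⟶ Spec (CommRingCat.of k₀)) [FrobSch.IsCharP C₀ p]
  (πC₀ : C ⟶ C₀) (πK : C ⟶ Spec (CommRingCat.of K))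
  (hC : IsPullback πC₀ πK f₀ (Spec.map (CommRingCat.ofHom (algebraMap k₀ K))))
  (N : ℕ) (Fr : C ⟶ C)
  (hFr₀ : Fr ≫ πC₀ = πC₀ ≫ End.asHom (End.of (FrobSch.frob C₀ p) ^ N))
  (hFrK : Fr ≫ πK = πK)

include hC hFr₀ hFrK in
/-- **S19879.** -/
theorem finite_discrete_fix [LocallyOfFiniteType f₀] [QuasiCompact f₀] {X Fx : Scheme.{u}}
    (pX : X ⟶ Spec (CommRingCat.of K)) [LocallyOfFiniteType pX]
    (c₁ c₂ : C ⟶ X) [LocallyQuasiFinite c₂] [LocallyOfFiniteType c₂]
    (hcomm : (Fr ≫ c₁) ≫ pX = c₂ ≫ pX) (d : ℕ) (hn : d < p ^ N)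
    (hd : ∀ (x : X) (hx : IsClosed ({x} : Set X)),
      ((Scheme.IdealSheafData.vanishingIdeal ⟨{x}, hx⟩).comap c₂).radical ^ d ≤
        (Scheme.IdealSheafData.vanishingIdeal ⟨{x}, hx⟩).comap c₂)
    (i : Fx ⟶ C) (δ : Fx ⟶ X)
    (hF : IsPullback i δ (pullback.lift (Fr ≫ c₁) c₂ hcomm) (pullback.diagonal pX)) :
    Finite Fx ∧ DiscreteTopology Fx := by
  haveI : LocallyOfFiniteType πK :=
    MorphismProperty.of_isPullback (P := @LocallyOfFiniteType) hC inferInstance
  haveI : QuasiCompact πK :=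
    MorphismProperty.of_isPullback (P := @QuasiCompact) hC inferInstance
  haveI : IsLocallyNoetherian C := LocallyOfFiniteType.isLocallyNoetherian πK
  haveI : CompactSpace C := QuasiCompact.compactSpace_of_compactSpace πK
  haveI : IsNoetherian C := {}
  haveI : IsImmersion i :=
    MorphismProperty.of_isPullback (P := @IsImmersion) hF.flip inferInstance
  have h2 : i ≫ c₂ = δ := by
    have := congrArg (· ≫ pullback.snd pX pX) hF.w
    simp only [Category.assoc, pullback.diagonal_snd, Category.comp_id] at this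
    rw [pullback.lift_snd] at this
    exact this
  haveI : LocallyOfFiniteType δ := by
    rw [← h2]
    infer_instance
  haveI : LocallyQuasiFinite δ := by
    rw [← h2]
    infer_instance
  haveI : JacobsonSpace X := LocallyOfFiniteType.jacobsonSpace pX
  haveI : JacobsonSpace Fx := LocallyOfFiniteType.jacobsonSpace (δ ≫ pX)
  have hopen : ∀ x : X, IsClosed ({x} : Set X) → IsOpen (δ ⁻¹' {x}) := by
    intro x hx
    obtain ⟨W, hWfix, -, k, hk⟩ := exists_open_contracting_closedPoint p k₀ K f₀ πC₀ πK hC N Fr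
      hFr₀ hFrK pX c₁ c₂ hcomm d hn x hx (hd x hx)
    have hW : Set.range i.base ⊆ (W : Set C) := by
      rintro _ ⟨f, rfl⟩
      apply hWfix
      refine ⟨δ f, ?_⟩
      have := congrArg (fun φ => φ f) hF.w
      simp only [Scheme.Hom.comp_apply] at this
      exact this.symm
    have h3 := isOpen_preimage_support pX (Fr ≫ c₁) c₂ hcomm i δ hF
      (Scheme.IdealSheafData.vanishingIdeal ⟨{x}, hx⟩) W hW k hk
    rw [Scheme.IdealSheafData.coe_support_vanishingIdeal] at h3
    exact h3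
  have hdisc : ∀ x : X, _root_.IsDiscrete (δ ⁻¹' {x}) := fun x =>
    δ.isDiscrete_preimage_singleton x
  haveI hD : DiscreteTopology Fx := discreteTopology_of_open_discrete_fibres δ hopen hdisc
  haveI : CompactSpace Fx := by
    rw [← isCompact_univ_iff, i.isEmbedding.toIsInducing.isCompact_iff]
    exact TopologicalSpace.NoetherianSpace.isCompact _
  exact ⟨finite_of_compact_of_discrete, hD⟩

end Geom

end Groth.Agent.H5.LVC
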